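import Cfsg.Agent.Lib.Schur.HS.Main
import Cfsg.Agent.Lib.Sporadic.HNIndex.Simple

/-!
# The Schur multiplier of the presented Harada-Norton group is trivial

In a stem extension the commutator subgroup of the preimage of `2.HS` meets the kernel trivially, since the
multiplier of `HS` has order two. The lifts of `x, y` in it and suitably scaled lifts of `z, t` satisfy all the
relations, so the extension splits.
-/

set_option autoImplicit false

namespace CfsgLib.Schur.Sporadic.HN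

open Cfsg.Spor CfsgLib.Sporadic.CosetCert.HNDouble CfsgLib.Sporadic.CosetCert.HNIndex
open scoped commutatorElement

/-- Scaling lifts of `t` and `z` by central elements removes the defects of their relations. -/
theorem scaled_lifts {Γ : Type*} [Group Γ] {C : Subgroup Γ} (hC : C ≤ Subgroup.center Γ) {X T Z : Γ}
    (hl : X⁻¹ * T * X * T ^ 2 ∈ C) (hn : T ^ 5 ∈ C) (hb : Z ^ 2 ∈ C) (ha : (Z * T) ^ 3 ∈ C)
    (hX4 : X ^ 2 * X ^ 2 = 1) (hZX : Commute (X ^ 2) Z) :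
    ∃ m ∈ C, ∃ k ∈ C, (T * m) ^ 5 = 1 ∧ X⁻¹ * (T * m) * X * (T * m) ^ 2 = 1 ∧
      (Z * k) ^ 2 = 1 ∧ (Z * k * (T * m)) ^ 3 = 1 := by
  have cen : ∀ {c : Γ}, c ∈ C → ∀ g : Γ, g * c = c * g := fun hc g => Subgroup.mem_center_iff.1 (hC hc) g
  obtain ⟨l, hl'⟩ : ∃ l, l = X⁻¹ * T * X * T ^ 2 := ⟨_, rfl⟩
  obtain ⟨n, hn'⟩ : ∃ n, n = T ^ 5 := ⟨_, rfl⟩
  rw [← hl'] at hl
  rw [← hn'] at hn
  have hconj : X⁻¹ * T * X = l * (T ^ 2)⁻¹ := by rw [hl']; group
  have cl : ∀ g, Commute l g := fun g => (cen hl g).symm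
  have cn : ∀ g, Commute n g := fun g => (cen hn g).symm
  have hln : n ^ 3 = l ^ 5 := by
    have e1 : (X⁻¹ * T * X) ^ 5 = n := by
      calc (X⁻¹ * T * X) ^ 5 = X⁻¹ * T ^ 5 * X := by simp only [pow_succ, pow_zero, one_mul]; group
        _ = n := by rw [← hn', mul_assoc, (cn X).eq, ← mul_assoc, inv_mul_cancel, one_mul]
    rw [hconj, (cl _).mul_pow, inv_pow, ← pow_mul, show 2 * 5 = 5 * 2 from rfl, pow_mul, ← hn'] at e1
    calc n ^ 3 = n ^ 2 * n := by rw [pow_succ]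
      _ = n ^ 2 * (l ^ 5 * (n ^ 2)⁻¹) := by rw [e1]
      _ = l ^ 5 := by rw [← ((cn (l ^ 5)).pow_left 2).inv_left.eq, mul_inv_cancel_left]
  have clm : Commute (l ^ 2)⁻¹ n := ((cl n).pow_left 2).inv_left
  obtain ⟨m, hm'⟩ : ∃ m, m = (l ^ 2)⁻¹ * n := ⟨_, rfl⟩
  have hm : m ∈ C := hm' ▸ mul_mem (inv_mem (pow_mem hl 2)) hn
  have cm : ∀ g, Commute m g := fun g => (cen hm g).symm
  have hm3 : m ^ 3 = l⁻¹ := by
    rw [hm', clm.mul_pow, hln]
    group
  have hm5 : m ^ 5 = n⁻¹ := by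
    calc m ^ 5 = ((l ^ 2)⁻¹) ^ 5 * n ^ 5 := by rw [hm', clm.mul_pow]
      _ = ((l ^ 5) ^ 2)⁻¹ * n ^ 5 := by group
      _ = n⁻¹ := by rw [← hln]; group
  have hT5 : (T * m) ^ 5 = 1 := by
    rw [(cm T).symm.mul_pow, hm5, ← hn', mul_inv_cancel]
  have hTX : X⁻¹ * (T * m) * X * (T * m) ^ 2 = 1 := by
    calc X⁻¹ * (T * m) * X * (T * m) ^ 2 = X⁻¹ * T * (m * X) * (T ^ 2 * m ^ 2) := by
          rw [(cm T).symm.mul_pow]; simp only [mul_assoc]
      _ = X⁻¹ * T * X * (m * T ^ 2) * m ^ 2 := by rw [(cm X).eq]; simp only [mul_assoc]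
      _ = X⁻¹ * T * X * (T ^ 2 * m) * m ^ 2 := by rw [(cm (T ^ 2)).eq]
      _ = l * m ^ 3 := by rw [hl', pow_succ m 2, pow_two m]; simp only [mul_assoc]
      _ = 1 := by rw [hm3, mul_inv_cancel]
  -- `x ^ 2` inverts the new lift of `t`
  obtain ⟨S, hS⟩ : ∃ S, S = T * m := ⟨_, rfl⟩
  rw [← hS] at hT5 hTX
  have hinv : (X ^ 2)⁻¹ * S * X ^ 2 = S⁻¹ := by
    have h1 : X⁻¹ * S * X = (S ^ 2)⁻¹ := eq_inv_of_mul_eq_one_left hTX
    calc (X ^ 2)⁻¹ * S * X ^ 2 = X⁻¹ * (X⁻¹ * S * X) * X := by rw [pow_two]; group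
      _ = X⁻¹ * (S ^ 2)⁻¹ * X := by rw [h1]
      _ = ((X⁻¹ * S * X) ^ 2)⁻¹ := by simp only [pow_two]; group
      _ = S ^ 5 * S⁻¹ := by rw [h1]; group
      _ = S⁻¹ := by rw [hT5, one_mul]
  obtain ⟨a, ha'⟩ : ∃ a, a = (Z * S) ^ 3 := ⟨_, rfl⟩
  obtain ⟨b, hb'⟩ : ∃ b, b = Z ^ 2 := ⟨_, rfl⟩
  rw [← hb'] at hb
  have haC : a ∈ C := by
    rw [ha', hS, ← mul_assoc, ((cm (Z * T)).symm).mul_pow]
    exact mul_mem ha (pow_mem hm 3)
  have ca : ∀ g, Commute a g := fun g => (cen haC g).symm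
  have cb : ∀ g, Commute b g := fun g => (cen hb g).symm
  have h1 : (Z * S⁻¹) ^ 3 = a := by
    have e : Z * S⁻¹ = (X ^ 2)⁻¹ * (Z * S) * X ^ 2 := by
      rw [← hinv]
      simp only [← mul_assoc]
      rw [hZX.inv_left.eq]
    rw [e]
    calc ((X ^ 2)⁻¹ * (Z * S) * X ^ 2) ^ 3 = (X ^ 2)⁻¹ * (Z * S) ^ 3 * X ^ 2 := by
          simp only [pow_succ, pow_zero, one_mul]; group
      _ = a := by rw [← ha', mul_assoc, (ca (X ^ 2)).eq, inv_mul_cancel_left]
  have hab : a ^ 2 = b ^ 3 := by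
    have e : Z * S⁻¹ = Z * (Z * S)⁻¹ * Z⁻¹ * b := by rw [hb', pow_two]; group
    rw [e, ((cb _).symm).mul_pow] at h1
    have e2 : (Z * (Z * S)⁻¹ * Z⁻¹) ^ 3 = a⁻¹ := by
      calc (Z * (Z * S)⁻¹ * Z⁻¹) ^ 3 = Z * ((Z * S) ^ 3)⁻¹ * Z⁻¹ := by
            simp only [pow_succ, pow_zero, one_mul]; group
        _ = a⁻¹ := by rw [← ha', ← ((ca Z).inv_left).eq, mul_inv_cancel_right]
    rw [e2] at h1
    calc a ^ 2 = a * (a⁻¹ * b ^ 3) := by rw [h1, pow_two]
      _ = b ^ 3 := mul_inv_cancel_left _ _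
  have hk : a⁻¹ * b ∈ C := mul_mem (inv_mem haC) hb
  have ck : ∀ g, Commute (a⁻¹ * b) g := fun g => (cen hk g).symm
  refine ⟨m, hm, a⁻¹ * b, hk, hS ▸ hT5, hS ▸ hTX, ?_, ?_⟩
  · rw [(ck Z).symm.mul_pow, ← hb', ((ca b).inv_left).mul_pow, inv_pow, hab, ← mul_assoc]
    group
  · rw [← hS, mul_assoc, (ck S).eq, ← mul_assoc, (ck (Z * S)).symm.mul_pow, ← ha', ((ca b).inv_left).mul_pow,
      ← hab]
    group

theorem characters {A : Type*} [CommGroup A] (ha : ∀ a : A, a ^ 2 = 1) (χ : N0 →* A) :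
    χ nX = 1 ∧ χ nY = 1 := by
  obtain ⟨-, -, -, h4, -, -, -, -, -, h10⟩ := hn_rels
  have e4 : (nX⁻¹ * nY ^ 2 * nX * nY ^ 3) ^ 3 = 1 := Subtype.ext h4
  have e10 : nZ * ((nY ^ 3 * nX * nY * nX * nY)⁻¹ * nZ * (nY ^ 3 * nX * nY * nX * nY) * nX) ^ 3 = 1 :=
    Subtype.ext h10
  have hi : ∀ a : A, a⁻¹ = a := fun a => inv_eq_of_mul_eq_one_right (by rw [← pow_two]; exact ha a)
  have hy : χ nY = 1 := by
    have e := congrArg χ e4
    simp only [map_mul, map_pow, map_inv, map_one, mul_pow, hi, pow_succ, pow_zero, one_mul] at e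
    have := ha (χ nX)
    have := ha (χ nY)
    simp only [pow_two] at *
    calc χ nY = (χ nX * χ nY * χ nY * χ nX * χ nY * χ nY * χ nY) * (χ nX * χ nY * χ nY * χ nX * χ nY * χ nY * χ nY) *
          (χ nX * χ nY * χ nY * χ nX * χ nY * χ nY * χ nY) := by
          simp only [mul_comm, mul_left_comm, mul_assoc, ← mul_assoc (χ nX) (χ nX), ← mul_assoc (χ nY) (χ nY),
            ha, mul_one, one_mul, ← pow_two]
      _ = 1 := by simpa [mul_assoc] using e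
  refine ⟨?_, hy⟩
  have e := congrArg χ e10
  simp only [map_mul, map_pow, map_inv, map_one, hi, hy, one_pow, one_mul, mul_one] at e
  have e' : χ nX ^ 3 * (χ nZ * χ nZ ^ 3) = 1 := by
    rw [← e]
    have h : χ nX * χ nX = 1 := by rw [← pow_two]; exact ha _
    simp [mul_pow, mul_comm, mul_left_comm, h]
  rwa [← pow_succ', show (3 + 1) = 2 * 2 from rfl, pow_mul, ha, mul_one, pow_succ, ha, one_mul] at e'

theorem mem_of_index_two {K : Subgroup N0} [K.Normal] (h : K.index = 2) : nX ∈ K ∧ nY ∈ K := by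
  have : Fact (Nat.Prime 2) := ⟨Nat.prime_two⟩
  have hc : IsCyclic (N0 ⧸ K) := isCyclic_of_prime_card (p := 2) h
  let : CommGroup (N0 ⧸ K) := IsCyclic.commGroup
  obtain ⟨h1, h2⟩ := characters (A := N0 ⧸ K) (fun a => by
    have := pow_card_eq_one' (x := a)
    rwa [show Nat.card (N0 ⧸ K) = 2 from h] at this) (QuotientGroup.mk' K)
  exact ⟨(QuotientGroup.eq_one_iff _).1 h1, (QuotientGroup.eq_one_iff _).1 h2⟩

theorem commutator_K {K : Type*} [Group K] (h : Cfsg.IsNonsplitDoubleCover K HS) : commutator K = ⊤ := by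
  obtain ⟨hc, ⟨e⟩, hns⟩ := h
  have := CfsgLib.Sporadic.OutCert.HS.isSimple_HS
  have hfin : Finite (K ⧸ Subgroup.center K) :=
    have : Finite HS := Nat.finite_of_card_ne_zero (by rw [CfsgLib.Sporadic.OutCert.HS.card_HS]; norm_num)
    Finite.of_equiv _ e.symm.toEquiv
  obtain ⟨q, hq⟩ : ∃ q, q = e.toMonoidHom.comp (QuotientGroup.mk' (Subgroup.center K)) := ⟨_, rfl⟩
  have hqs : Function.Surjective q := hq ▸ e.surjective.comp (QuotientGroup.mk'_surjective _)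
  have himg : (commutator K).map q = ⊤ := by
    have hn : ((commutator K).map q).Normal := Subgroup.Normal.map inferInstance q hqs
    refine hn.eq_bot_or_eq_top.resolve_left fun hb => ?_
    have hcomm : ∀ a b : HS, a * b = b * a := by
      intro a b
      obtain ⟨a, rfl⟩ := hqs a
      obtain ⟨b, rfl⟩ := hqs b
      rw [← commutatorElement_eq_one_iff_mul_comm, ← map_commutatorElement]
      have : q ⁅a, b⁆ ∈ (commutator K).map q :=
        ⟨_, Subgroup.commutator_mem_commutator (Subgroup.mem_top a) (Subgroup.mem_top b), rfl⟩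
      rwa [hb, Subgroup.mem_bot] at this
    let : CommGroup HS := { (inferInstance : Group HS) with mul_comm := hcomm }
    have : Finite HS := Nat.finite_of_card_ne_zero (by rw [CfsgLib.Sporadic.OutCert.HS.card_HS]; norm_num)
    have hp : (Nat.card HS).Prime := IsSimpleGroup.prime_card
    rw [CfsgLib.Sporadic.OutCert.HS.card_HS] at hp
    norm_num at hp
  have hker : q.ker = Subgroup.center K := by
    ext a
    rw [hq, MonoidHom.mem_ker, MonoidHom.comp_apply, MulEquiv.coe_toMonoidHom,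
      MulEquiv.map_eq_one_iff, QuotientGroup.mk'_apply, QuotientGroup.eq_one_iff]
  have hsup : commutator K ⊔ Subgroup.center K = ⊤ := by
    rw [← hker, ← Subgroup.comap_map_eq, himg, Subgroup.comap_top]
  have : Finite (Subgroup.center K) := Nat.finite_of_card_ne_zero (by rw [hc]; norm_num)
  by_cases hz : Subgroup.center K ≤ commutator K
  · rwa [sup_of_le_left hz] at hsup
  refine absurd ?_ (hns (commutator K))
  have hinf : commutator K ⊓ Subgroup.center K = ⊥ := by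
    have hd := Subgroup.card_dvd_of_le (inf_le_right : commutator K ⊓ Subgroup.center K ≤ Subgroup.center K)
    rw [hc, Nat.dvd_prime Nat.prime_two] at hd
    rcases hd with hd | hd
    · exact Subgroup.eq_bot_of_card_eq _ hd
    · exact absurd (le_trans (Subgroup.eq_of_le_of_card_ge inf_le_right (by rw [hc, hd])).ge inf_le_left) hz
  exact Subgroup.isComplement'_of_disjoint_and_mul_eq_univ
    (disjoint_iff.2 (by rw [inf_comm]; exact hinf))
    (by rw [← Subgroup.normal_mul, sup_comm, hsup, Subgroup.coe_top])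

theorem commutator_sup_center {Γ : Type*} [Group Γ] (J : Subgroup Γ) (C : Subgroup Γ)
    (hC : C ≤ Subgroup.center Γ) {L : Subgroup Γ} (hL : ∀ g ∈ L, ∃ j ∈ J, ∃ c ∈ C, g = j * c) :
    ⁅L, L⁆ ≤ ⁅J, J⁆ := by
  rw [Subgroup.commutator_le]
  intro g hg h hh
  obtain ⟨j, hj, c, hc, rfl⟩ := hL g hg
  obtain ⟨k, hk, d, hd, rfl⟩ := hL h hh
  have e : ⁅j * c, k * d⁆ = ⁅j, k⁆ := by
    have c1 := Subgroup.mem_center_iff.1 (hC hc)
    have d1 := Subgroup.mem_center_iff.1 (hC hd)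
    simp only [commutatorElement_def, mul_inv_rev]
    calc j * c * (k * d) * (c⁻¹ * j⁻¹) * (d⁻¹ * k⁻¹)
        = j * (c * (k * d)) * (c⁻¹ * j⁻¹) * (d⁻¹ * k⁻¹) := by group
      _ = j * ((k * d) * c) * (c⁻¹ * j⁻¹) * (d⁻¹ * k⁻¹) := by rw [c1 (k * d)]
      _ = j * k * (d * j⁻¹) * (d⁻¹ * k⁻¹) := by group
      _ = j * k * (j⁻¹ * d) * (d⁻¹ * k⁻¹) := by rw [d1 j⁻¹]
      _ = j * k * j⁻¹ * k⁻¹ := by group
  rw [e]
  exact Subgroup.commutator_mem_commutator hj hk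

theorem ker_eq_bot (Γ : Type) [Group Γ] [Finite Γ] (σ : Γ →* HN) (hσ : Cfsg.IsStemExtension σ) :
    σ.ker = ⊥ := by
  obtain ⟨hsurj, hcen, hcom⟩ := hσ
  obtain ⟨K, hKn, hK2, hcov⟩ := exists_double_cover
  obtain ⟨hxK, hyK⟩ := mem_of_index_two hK2
  have hperf := commutator_K hcov
  obtain ⟨hcard, ⟨e⟩, -⟩ := hcov
  obtain ⟨L, hL⟩ : ∃ L, L = K.map N0.subtype := ⟨_, rfl⟩
  obtain ⟨Kh, hKh⟩ : ∃ Kh, Kh = L.comap σ := ⟨_, rfl⟩
  obtain ⟨J, hJ⟩ : ∃ J, J = ⁅Kh, Kh⁆ := ⟨_, rfl⟩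
  have hJimg : J.map σ = L := by
    rw [hJ, Subgroup.map_commutator, hKh, Subgroup.map_comap_eq_self_of_surjective hsurj, hL,
      ← Subgroup.map_commutator, ← Subgroup.map_subtype_commutator, hperf, ← MonoidHom.range_eq_map,
      Subgroup.range_subtype]
  have hJle : J ≤ Kh := hJ ▸ Subgroup.commutator_le_self Kh
  have hdec : ∀ g ∈ Kh, ∃ j ∈ J, ∃ c ∈ σ.ker, g = j * c := by
    intro g hg
    rw [hKh, Subgroup.mem_comap, ← hJimg] at hg
    obtain ⟨j, hj, hjg⟩ := hg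
    exact ⟨j, hj, j⁻¹ * g, by rw [MonoidHom.mem_ker, map_mul, map_inv, hjg, inv_mul_cancel],
      (mul_inv_cancel_left j g).symm⟩
  have hJperf : ⁅J, J⁆ = J :=
    le_antisymm (Subgroup.commutator_le_self J) (hJ ▸ commutator_sup_center J σ.ker hcen hdec)
  have hJK : ∀ j : J, ∃ k : K, ((k : N0) : HN) = σ j := fun j => by
    have h : σ j ∈ L := hJimg ▸ ⟨j, j.2, rfl⟩
    rw [hL] at h
    obtain ⟨k, hk, hkj⟩ := h
    exact ⟨⟨k, hk⟩, hkj⟩
  have hKinj : ∀ {a b : K}, ((a : N0) : HN) = ((b : N0) : HN) → a = b := fun h =>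
    Subtype.ext (Subtype.ext h)
  let f : J →* K := MonoidHom.mk' (fun j => (hJK j).choose) fun a b => hKinj (by
    rw [(hJK (a * b)).choose_spec, Subgroup.coe_mul, map_mul, Subgroup.coe_mul, Subgroup.coe_mul,
      (hJK a).choose_spec, (hJK b).choose_spec])
  have hf : ∀ j : J, (((f j : K) : N0) : HN) = σ j := fun j => (hJK j).choose_spec
  have hfs : Function.Surjective f := fun k => by
    have h : ((k : N0) : HN) ∈ J.map σ := by
      rw [hJimg, hL]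
      exact ⟨k, k.2, rfl⟩
    obtain ⟨j, hj, hjk⟩ := h
    exact ⟨⟨j, hj⟩, hKinj ((hf _).trans hjk)⟩
  obtain ⟨⟨eH⟩, -, -⟩ := CfsgLib.Sporadic.OutCert.HS.H_spec
  let τ : J →* CfsgLib.Sporadic.OutCert.HS.H :=
    ((e.trans eH).toMonoidHom.comp (QuotientGroup.mk' (Subgroup.center K))).comp f
  have hJtop : commutator J = ⊤ := by
    apply Subgroup.map_injective J.subtype_injective
    rw [Subgroup.map_subtype_commutator, hJperf, ← MonoidHom.range_eq_map, Subgroup.range_subtype]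
  have hτker : ∀ j : J, j ∈ τ.ker → f j ∈ Subgroup.center K := fun j hj => by
    rwa [MonoidHom.mem_ker, MonoidHom.comp_apply, MonoidHom.comp_apply, MulEquiv.coe_toMonoidHom,
      MulEquiv.map_eq_one_iff, QuotientGroup.mk'_apply, QuotientGroup.eq_one_iff] at hj
  have hτcen : τ.ker ≤ Subgroup.center J := by
    intro d hd
    have key : ∀ j : J, ⁅j, d⁆ ∈ Subgroup.center J := by
      intro j
      have h1 : f ⁅j, d⁆ = 1 := by
        rw [map_commutatorElement, commutatorElement_eq_one_iff_mul_comm]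
        exact Subgroup.mem_center_iff.1 (hτker d hd) (f j)
      have h2 : σ ((⁅j, d⁆ : J) : Γ) = 1 := by
        rw [← hf, h1]
        rfl
      rw [Subgroup.mem_center_iff]
      intro g
      exact Subtype.ext (Subgroup.mem_center_iff.1 (hcen h2) (g : Γ))
    let χ : J →* Subgroup.center J := MonoidHom.mk' (fun j => ⟨⁅j, d⁆, key j⟩) fun a b => Subtype.ext (by
      show ⁅a * b, d⁆ = ⁅a, d⁆ * ⁅b, d⁆
      have hb := Subgroup.mem_center_iff.1 (key b)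
      simp only [commutatorElement_def] at hb ⊢
      calc a * b * d * (a * b)⁻¹ * d⁻¹ = a * (b * d * b⁻¹ * d⁻¹) * (d * a⁻¹ * d⁻¹) := by group
        _ = (b * d * b⁻¹ * d⁻¹) * a * (d * a⁻¹ * d⁻¹) := by rw [hb a]
        _ = (b * d * b⁻¹ * d⁻¹) * (a * d * a⁻¹ * d⁻¹) := by group
        _ = (a * d * a⁻¹ * d⁻¹) * (b * d * b⁻¹ * d⁻¹) := (hb _).symm)
    have hχ : χ.ker = ⊤ := by
      rw [eq_top_iff, ← hJtop, commutator_def, Subgroup.commutator_le]
      intro a _ b _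
      rw [MonoidHom.mem_ker, map_commutatorElement, commutatorElement_eq_one_iff_mul_comm]
      exact Subtype.ext (Subgroup.mem_center_iff.1 (χ b).2 (χ a : J))
    rw [Subgroup.mem_center_iff]
    intro g
    have : χ g = 1 := MonoidHom.mem_ker.1 (hχ ▸ Subgroup.mem_top g)
    exact commutatorElement_eq_one_iff_mul_comm.1 (congrArg Subtype.val this)
  have hτ : Cfsg.IsStemExtension τ :=
    ⟨((e.trans eH).surjective.comp (QuotientGroup.mk'_surjective _)).comp hfs, hτcen, hJtop ▸ le_top⟩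
  have hτ2 := CfsgLib.Schur.Sporadic.HS.card_ker_le J τ hτ
  let fk : τ.ker → Subgroup.center K := fun j => ⟨f j, hτker j j.2⟩
  have hfk : Function.Surjective fk := by
    rintro ⟨k, hk⟩
    obtain ⟨j, rfl⟩ := hfs k
    refine ⟨⟨j, ?_⟩, rfl⟩
    rw [MonoidHom.mem_ker, MonoidHom.comp_apply, MonoidHom.comp_apply, MulEquiv.coe_toMonoidHom,
      MulEquiv.map_eq_one_iff, QuotientGroup.mk'_apply, QuotientGroup.eq_one_iff]
    exact hk
  have hfkb : Function.Bijective fk := (Nat.bijective_iff_surjective_and_card fk).2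
    ⟨hfk, le_antisymm (hτ2.trans hcard.ge) (Nat.card_le_card_of_surjective fk hfk)⟩
  have hinj : ∀ g ∈ J, σ g = 1 → g = 1 := by
    intro g hg h1
    have hf1 : f ⟨g, hg⟩ = 1 := hKinj ((hf _).trans h1)
    have hm : (⟨g, hg⟩ : J) ∈ τ.ker := by
      rw [MonoidHom.mem_ker, MonoidHom.comp_apply, hf1, map_one]
    have : (⟨⟨g, hg⟩, hm⟩ : τ.ker) = 1 := hfkb.1 (Subtype.ext (hf1.trans (map_one f).symm))
    exact congrArg (fun z : τ.ker => ((z : J) : Γ)) this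
  have liftJ : ∀ k ∈ K, ∃ g ∈ J, σ g = (k : HN) := fun k hk => by
    have h : ((k : N0) : HN) ∈ J.map σ := by
      rw [hJimg, hL]
      exact ⟨k, hk, rfl⟩
    exact h
  obtain ⟨X, hXJ, hX⟩ := liftJ nX hxK
  obtain ⟨Y, hYJ, hY⟩ := liftJ nY hyK
  obtain ⟨T0, hT0⟩ := hsurj gT
  obtain ⟨Z0, hZ0⟩ := hsurj gZ
  obtain ⟨r1, r2, r3, r4, r5, r6, r7, r8, r9, r10⟩ := hn_rels
  obtain ⟨s1, s2, s3, s4⟩ := t_rels
  change σ X = gX at hX
  change σ Y = gY at hY
  have hnorm : ∀ c, σ c ∈ N0 → ∀ g ∈ J, c * g * c⁻¹ ∈ J := by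
    intro c hc g hg
    have hK' : ∀ u ∈ Kh, c * u * c⁻¹ ∈ Kh := by
      intro u hu
      rw [hKh, Subgroup.mem_comap, hL] at hu ⊢
      obtain ⟨k, hk, hku⟩ := hu
      refine ⟨⟨σ c, hc⟩ * k * ⟨σ c, hc⟩⁻¹, hKn.conj_mem k hk _, ?_⟩
      rw [map_mul σ, map_mul σ, map_inv σ, ← hku]
      rfl
    have hmap : Kh.map (MulAut.conj c).toMonoidHom ≤ Kh := by
      rintro _ ⟨u, hu, rfl⟩
      exact hK' u hu
    have hg' : c * g * c⁻¹ ∈ J.map (MulAut.conj c).toMonoidHom := ⟨g, hg, rfl⟩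
    rw [hJ, Subgroup.map_commutator] at hg'
    exact hJ ▸ Subgroup.commutator_mono hmap hmap hg'
  have hZN : σ Z0 ∈ N0 := hZ0 ▸ nZ.2
  have hX4 : X ^ 2 * X ^ 2 = 1 := hinj _ (mul_mem (pow_mem hXJ 2) (pow_mem hXJ 2)) (by
    rw [map_mul, map_pow, hX]
    have h := pow_orderOf_eq_one (nX ^ 2)
    rw [sq_facts.2, pow_two (nX ^ 2)] at h
    exact congrArg Subtype.val h)
  have hcomm : gZ * gX ^ 2 = gX ^ 2 * gZ :=
    congrArg Subtype.val (Subgroup.mem_center_iff.1 sq_facts.1 nZ)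
  have hZX : Commute (X ^ 2) Z0 := by
    have h := hinj (Z0 * X ^ 2 * Z0⁻¹ * (X ^ 2)⁻¹)
      (mul_mem (hnorm Z0 hZN _ (pow_mem hXJ 2)) (inv_mem (pow_mem hXJ 2))) (by
        rw [map_mul, map_mul, map_mul, map_inv, map_inv, map_pow, hX, hZ0, hcomm]
        group)
    rw [mul_inv_eq_one, mul_inv_eq_iff_eq_mul] at h
    exact h.symm
  obtain ⟨m, hm, k, hk, t5, tx, z2, zt⟩ := scaled_lifts hcen (X := X) (T := T0) (Z := Z0)
    (by rw [MonoidHom.mem_ker]; simp only [map_mul, map_pow, map_inv, hX, hT0]; exact s2)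
    (by rw [MonoidHom.mem_ker, map_pow, hT0]; exact s1)
    (by rw [MonoidHom.mem_ker, map_pow, hZ0]; exact r7)
    (by rw [MonoidHom.mem_ker, map_pow, map_mul, hZ0, hT0]; exact s4) hX4 hZX
  obtain ⟨T, hTd⟩ : ∃ T, T = T0 * m := ⟨_, rfl⟩
  obtain ⟨Z, hZd⟩ : ∃ Z, Z = Z0 * k := ⟨_, rfl⟩
  rw [← hTd] at t5 tx zt
  rw [← hZd] at z2 zt
  have hT : σ T = gT := by rw [hTd, map_mul, hT0, MonoidHom.mem_ker.1 hm, mul_one]
  have hZ : σ Z = gZ := by rw [hZd, map_mul, hZ0, MonoidHom.mem_ker.1 hk, mul_one]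
  have hconjZ : ∀ g ∈ J, Z * g * Z⁻¹ ∈ J := hnorm Z (hZ ▸ nZ.2)
  have hZi : Z⁻¹ = Z := inv_eq_of_mul_eq_one_right (by rw [← pow_two]; exact z2)
  have hconjZ' : ∀ g ∈ J, Z * g * Z ∈ J := fun g hg => by
    have := hconjZ g hg
    rwa [hZi] at this
  have lifted : ∀ w ∈ J, σ w = 1 → w = 1 := hinj
  have q1 : Y ^ 6 = 1 := lifted _ (pow_mem hYJ 6) (by rw [map_pow, hY]; exact r1)
  have q2 : X ^ 2 * Y * X ^ 2 * Y⁻¹ = 1 :=
    lifted _ (mul_mem (mul_mem (mul_mem (pow_mem hXJ 2) hYJ) (pow_mem hXJ 2)) (inv_mem hYJ))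
      (by simp only [map_mul, map_pow, map_inv, hX, hY]; exact r2)
  have q3 : (X⁻¹ * Y⁻¹ * X * Y) ^ 3 = 1 :=
    lifted _ (pow_mem (mul_mem (mul_mem (mul_mem (inv_mem hXJ) (inv_mem hYJ)) hXJ) hYJ) 3)
      (by simp only [map_mul, map_pow, map_inv, hX, hY]; exact r3)
  have q4 : (X⁻¹ * Y ^ 2 * X * Y ^ 3) ^ 3 = 1 :=
    lifted _ (pow_mem (mul_mem (mul_mem (mul_mem (inv_mem hXJ) (pow_mem hYJ 2)) hXJ) (pow_mem hYJ 3)) 3)
      (by simp only [map_mul, map_pow, map_inv, hX, hY]; exact r4)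
  have q5 : (X * Y) ^ 8 = 1 :=
    lifted _ (pow_mem (mul_mem hXJ hYJ) 8) (by simp only [map_mul, map_pow, hX, hY]; exact r5)
  have q6 : (X * Y * X * Y ^ 3) ^ 4 = 1 :=
    lifted _ (pow_mem (mul_mem (mul_mem (mul_mem hXJ hYJ) hXJ) (pow_mem hYJ 3)) 4)
      (by simp only [map_mul, map_pow, hX, hY]; exact r6)
  have q8 : (Z * X) ^ 2 = 1 :=
    lifted _ (by rw [pow_two, ← mul_assoc]; exact mul_mem (hconjZ' X hXJ) hXJ)
      (by simp only [map_mul, map_pow, hX, hZ]; exact r8)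
  have hw : Y * X * Y * X * Y ^ 2 * X * Y⁻¹ ∈ J :=
    mul_mem (mul_mem (mul_mem (mul_mem (mul_mem (mul_mem hYJ hXJ) hYJ) hXJ) (pow_mem hYJ 2)) hXJ) (inv_mem hYJ)
  have q9 : Z⁻¹ * (Y * X * Y * X * Y ^ 2 * X * Y⁻¹)⁻¹ * Z * (Y * X * Y * X * Y ^ 2 * X * Y⁻¹) * (X ^ 2)⁻¹ = 1 :=
    lifted _ (by rw [hZi]; exact mul_mem (mul_mem (hconjZ' _ (inv_mem hw)) hw) (inv_mem (pow_mem hXJ 2)))
      (by simp only [map_mul, map_pow, map_inv, hX, hY, hZ]; exact r9)
  have hu : Y ^ 3 * X * Y * X * Y ∈ J :=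
    mul_mem (mul_mem (mul_mem (mul_mem (pow_mem hYJ 3) hXJ) hYJ) hXJ) hYJ
  obtain ⟨U, hU⟩ : ∃ U, U = Y ^ 3 * X * Y * X * Y := ⟨_, rfl⟩
  rw [← hU] at hu
  have q10 : Z * (U⁻¹ * Z * U * X) ^ 3 = 1 := by
    refine lifted _ ?_ (by simp only [hU, map_mul, map_pow, map_inv, hX, hY, hZ]; exact r10)
    obtain ⟨j, hj, hjJ⟩ : ∃ j, U⁻¹ * Z * U * X = Z * j ∧ j ∈ J := ⟨Z * (U⁻¹ * Z * U * X), by
      rw [← mul_assoc Z Z, ← pow_two, z2, one_mul], by
      have := mul_mem (mul_mem (hconjZ' _ (inv_mem hu)) hu) hXJ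
      simpa only [mul_assoc] using this⟩
    have e : Z * (Z * j) ^ 3 = j * (Z * j * Z) * j := by
      calc Z * (Z * j) ^ 3 = Z * Z * j * Z * j * Z * j := by
            simp only [pow_succ, pow_zero, one_mul, mul_assoc]
        _ = j * (Z * j * Z) * j := by rw [← pow_two, z2, one_mul]; simp only [mul_assoc]
    rw [hj, e]
    exact mul_mem (mul_mem hjJ (hconjZ' j hjJ)) hjJ
  have q13 : T⁻¹ * Y⁻¹ * T * Y = 1 := by
    obtain ⟨c, hc⟩ : ∃ c, c = T⁻¹ * Y⁻¹ * T * Y := ⟨_, rfl⟩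
    have hcC : c ∈ Subgroup.center Γ := hcen (by
      rw [hc, MonoidHom.mem_ker]
      simp only [map_mul, map_inv, hT, hY]
      exact s3)
    have cc : ∀ g, Commute c g := fun g => (Subgroup.mem_center_iff.1 hcC g).symm
    have e1 : Y⁻¹ * T * Y = T * c := by rw [hc]; group
    have e5 : c ^ 5 = 1 := by
      have h := congrArg (fun g : Γ => g ^ 5) e1
      beta_reduce at h
      rw [(cc T).symm.mul_pow, t5, one_mul] at h
      rw [← h]
      calc (Y⁻¹ * T * Y) ^ 5 = Y⁻¹ * T ^ 5 * Y := by simp only [pow_succ, pow_zero, one_mul]; group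
        _ = 1 := by rw [t5, mul_one, inv_mul_cancel]
    have e6 : c ^ 6 = 1 := by
      have e2 : T⁻¹ * Y * T = Y * c⁻¹ := by
        calc T⁻¹ * Y * T = Y * ((T * c)⁻¹ * T) := by rw [← e1]; group
          _ = Y * c⁻¹ := by rw [mul_inv_rev, mul_assoc c⁻¹, inv_mul_cancel, mul_one]
      have h := congrArg (fun g : Γ => g ^ 6) e2
      beta_reduce at h
      rw [((cc Y).symm.inv_right).mul_pow, q1, one_mul, inv_pow] at h
      have : (T⁻¹ * Y * T) ^ 6 = 1 := by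
        calc (T⁻¹ * Y * T) ^ 6 = T⁻¹ * Y ^ 6 * T := by simp only [pow_succ, pow_zero, one_mul]; group
          _ = 1 := by rw [q1, mul_one, inv_mul_cancel]
      exact inv_eq_one.1 (h.symm.trans this)
    rw [← hc]
    calc c = c ^ 6 * (c ^ 5)⁻¹ := by group
      _ = 1 := by rw [e6, e5, inv_one, mul_one]
  let u : HN.Gen → Γ := fun g => match g with
    | .x => X
    | .y => Y
    | .z => Z
    | .t => T
  have hrel : ∀ r ∈ coxRelators HN.edges ∪ {r | r ∈ HN.extra}, FreeGroup.lift u r = 1 := by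
    rintro r (⟨a, ha, -⟩ | hr)
    · exact absurd ha (by simp [coxNodes, HN.edges])
    simp only [HN.extra, Set.mem_setOf_eq, List.mem_cons, List.not_mem_nil, or_false] at hr
    rw [hU] at q10
    rcases hr with rfl | rfl | rfl | rfl | rfl | rfl | rfl | rfl | rfl | rfl | rfl | rfl | rfl | rfl <;>
      simp only [map_mul, map_pow, map_inv, FreeGroup.lift_apply_of, u]
    exacts [q1, q2, q3, q4, q5, q6, z2, q8, q9, q10, t5, tx, q13, zt]
  let s : HN →* Γ := PresentedGroup.toGroup hrel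
  have hs : σ.comp s = MonoidHom.id HN := by
    refine PresentedGroup.ext fun g => ?_
    rw [MonoidHom.comp_apply, PresentedGroup.toGroup.of]
    cases g
    exacts [hX, hY, hZ, hT]
  have hle : commutator Γ ≤ s.range := by
    have hdec' : ∀ g ∈ (⊤ : Subgroup Γ), ∃ j ∈ s.range, ∃ c ∈ σ.ker, g = j * c := fun g _ =>
      ⟨s (σ g), ⟨_, rfl⟩, (s (σ g))⁻¹ * g, by
        rw [MonoidHom.mem_ker, map_mul, map_inv, ← MonoidHom.comp_apply σ s, hs, MonoidHom.id_apply,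
          inv_mul_cancel], (mul_inv_cancel_left _ g).symm⟩
    rw [commutator_def]
    exact (commutator_sup_center s.range σ.ker hcen hdec').trans (Subgroup.commutator_le_self _)
  rw [eq_bot_iff]
  intro g hg
  obtain ⟨a, rfl⟩ := hle (hcom hg)
  have : a = 1 := by
    rw [← MonoidHom.id_apply (M := HN) a, ← hs]
    exact hg
  rw [Subgroup.mem_bot, this, map_one]

theorem hasMultiplier : Cfsg.HasCyclicSchurMultiplier Cfsg.Spor.HN 1 := by
  have : Finite Cfsg.Spor.HN := Nat.finite_of_card_ne_zero (by rw [card_HN]; norm_num)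
  exact Basic.hasCyclicSchurMultiplier_one_of fun Γ _ _ σ hσ => ker_eq_bot Γ σ hσ

end CfsgLib.Schur.Sporadic.HN
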